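import Mathlib
import Groth.Agent.Lib.Helper6.ProjNormal

/-!
# Homogeneous localization at a homogeneous prime: the ideal of numerators, contraction,
Noetherianity and heights (helper6)

For a `ℕ`-graded ring `A`, a prime `p` and an ideal `I` of `A_(p)` we build the homogeneous
ideal `up I` of `A` of all numerators of elements of `I`; `I ↦ up I` is an order embedding
preserving primes.  As consequences: ideals of `A_(p)` are contracted from `A_p`, the ring
`A_(p)` is Noetherian when `A` is, and `ht 𝔪_{A_(p)} ≤ ht p`.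
-/

set_option autoImplicit false
set_option linter.unusedSectionVars false
set_option linter.unusedVariables false
set_option linter.unusedSimpArgs false
set_option linter.style.haveILetI false
set_option linter.overlappingInstances false
set_option maxHeartbeats 800000

noncomputable section

namespace Groth.Agent.Lib.Helper6.ProjCM

open DirectSum HomogeneousLocalization Groth.Agent.Lib.Helper6.ProjNormal

universe u

variable {A : Type u} [CommRing A] (𝒜 : ℕ → AddSubgroup A) [GradedRing 𝒜]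
  (p : Ideal A) [hp : p.IsPrime]

/-- equality of fractions from a cross-multiplication -/
theorem mk_eq_of_mul_eq {M : Submonoid A} (a a' : A) (s s' : M)
    (h : a * (s' : A) = a' * (s : A)) : Localization.mk a s = Localization.mk a' s' := by
  rw [Localization.mk_eq_mk_iff, Localization.r_iff_exists]
  refine ⟨1, ?_⟩
  simp only [OneMemClass.coe_one, one_mul]
  rw [mul_comm (s' : A) a, h, mul_comm]

/-- a fraction of degree zero -/
def fr (n : ℕ) (a t : A) (ha : a ∈ 𝒜 n) (ht : t ∈ 𝒜 n) (htp : t ∈ p.primeCompl) :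
    AtPrime 𝒜 p :=
  HomogeneousLocalization.mk ⟨n, ⟨a, ha⟩, ⟨t, ht⟩, htp⟩

theorem val_fr (n : ℕ) (a t : A) (ha : a ∈ 𝒜 n) (ht : t ∈ 𝒜 n) (htp : t ∈ p.primeCompl) :
    (fr 𝒜 p n a t ha ht htp).val = Localization.mk a ⟨t, htp⟩ :=
  HomogeneousLocalization.val_mk _

theorem exists_fr (b : AtPrime 𝒜 p) :
    ∃ (n : ℕ) (a t : A) (ha : a ∈ 𝒜 n) (ht : t ∈ 𝒜 n) (htp : t ∈ p.primeCompl),
      b = fr 𝒜 p n a t ha ht htp := by
  obtain ⟨c, rfl⟩ := HomogeneousLocalization.mk_surjective b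
  exact ⟨c.deg, c.num, c.den, c.num.2, c.den.2, c.den_mem, rfl⟩

/-- the homogeneous ideal of `A` of all numerators of the elements of `I` -/
def up (I : Ideal (AtPrime 𝒜 p)) : Ideal A where
  carrier := {x | ∀ (i j : ℕ) (c t : A), c ∈ 𝒜 j → t ∈ 𝒜 (j + i) → ∀ htp : t ∈ p.primeCompl,
    ∃ b ∈ I, b.val = Localization.mk (c * (decompose 𝒜 x i : A)) ⟨t, htp⟩}
  zero_mem' := by
    intro i j c t _ _ htp
    refine ⟨0, I.zero_mem, ?_⟩
    rw [decompose_zero, DirectSum.zero_apply, ZeroMemClass.coe_zero, mul_zero,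
      Localization.mk_zero, HomogeneousLocalization.val_zero]
  add_mem' := by
    intro x y hx hy i j c t hc ht htp
    obtain ⟨b, hb, hbv⟩ := hx i j c t hc ht htp
    obtain ⟨b', hb', hbv'⟩ := hy i j c t hc ht htp
    refine ⟨b + b', I.add_mem hb hb', ?_⟩
    rw [HomogeneousLocalization.val_add, hbv, hbv', Localization.add_mk_self, decompose_add,
      DirectSum.add_apply, AddMemClass.coe_add, mul_add]
  smul_mem' := by
    intro r x hx
    have key : ∀ r : A, r * x ∈ {x | ∀ (i j : ℕ) (c t : A), c ∈ 𝒜 j → t ∈ 𝒜 (j + i) →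
        ∀ htp : t ∈ p.primeCompl,
        ∃ b ∈ I, b.val = Localization.mk (c * (decompose 𝒜 x i : A)) ⟨t, htp⟩} := by
      intro r
      induction r using DirectSum.Decomposition.inductionOn 𝒜 with
      | zero =>
        intro i j c t _ _ htp
        refine ⟨0, I.zero_mem, ?_⟩
        rw [zero_mul, decompose_zero, DirectSum.zero_apply, ZeroMemClass.coe_zero, mul_zero,
          Localization.mk_zero, HomogeneousLocalization.val_zero]
      | homogeneous r =>
        rename_i k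
        intro i j c t hc ht htp
        by_cases hki : k ≤ i
        · have ht' : t ∈ 𝒜 (j + k + (i - k)) := by
            have : j + k + (i - k) = j + i := by omega
            rw [this]; exact ht
          obtain ⟨b, hb, hbv⟩ := hx (i - k) (j + k) (c * (r : A)) t
            (SetLike.mul_mem_graded hc r.2) ht' htp
          refine ⟨b, hb, ?_⟩
          rw [hbv, coe_decompose_mul_of_left_mem_of_le 𝒜 r.2 hki, mul_assoc]
        · refine ⟨0, I.zero_mem, ?_⟩
          rw [coe_decompose_mul_of_left_mem_of_not_le 𝒜 r.2 hki, mul_zero,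
            Localization.mk_zero, HomogeneousLocalization.val_zero]
      | add a b ha hb =>
        intro i j c t hc ht htp
        obtain ⟨b₁, hb₁, hbv₁⟩ := ha i j c t hc ht htp
        obtain ⟨b₂, hb₂, hbv₂⟩ := hb i j c t hc ht htp
        refine ⟨b₁ + b₂, I.add_mem hb₁ hb₂, ?_⟩
        rw [HomogeneousLocalization.val_add, hbv₁, hbv₂, Localization.add_mk_self, add_mul,
          decompose_add, DirectSum.add_apply, AddMemClass.coe_add, mul_add]
    exact key r

theorem mem_up {I : Ideal (AtPrime 𝒜 p)} {x : A} :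
    x ∈ up 𝒜 p I ↔ ∀ (i j : ℕ) (c t : A), c ∈ 𝒜 j → t ∈ 𝒜 (j + i) → ∀ htp : t ∈ p.primeCompl,
      ∃ b ∈ I, b.val = Localization.mk (c * (decompose 𝒜 x i : A)) ⟨t, htp⟩ := Iff.rfl

theorem up_mono {I J : Ideal (AtPrime 𝒜 p)} (h : I ≤ J) : up 𝒜 p I ≤ up 𝒜 p J := by
  intro x hx i j c t hc ht htp
  obtain ⟨b, hb, hbv⟩ := hx i j c t hc ht htp
  exact ⟨b, h hb, hbv⟩

theorem up_isHomogeneous (I : Ideal (AtPrime 𝒜 p)) : (up 𝒜 p I).IsHomogeneous 𝒜 := by
  intro k x hx i j c t hc ht htp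
  by_cases hik : i = k
  · subst hik
    obtain ⟨b, hb, hbv⟩ := hx i j c t hc ht htp
    refine ⟨b, hb, ?_⟩
    rw [hbv, decompose_coe, DirectSum.of_eq_same]
  · refine ⟨0, I.zero_mem, ?_⟩
    rw [decompose_coe, DirectSum.of_eq_of_ne _ _ _ hik, ZeroMemClass.coe_zero, mul_zero,
      Localization.mk_zero, HomogeneousLocalization.val_zero]

/-- membership of a homogeneous element in `up I` -/
theorem mem_up_of_mem {I : Ideal (AtPrime 𝒜 p)} {n : ℕ} {a : A} (ha : a ∈ 𝒜 n) :
    a ∈ up 𝒜 p I ↔ ∀ (j : ℕ) (c t : A), c ∈ 𝒜 j → t ∈ 𝒜 (j + n) → ∀ htp : t ∈ p.primeCompl,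
      ∃ b ∈ I, b.val = Localization.mk (c * a) ⟨t, htp⟩ := by
  constructor
  · intro h j c t hc ht htp
    obtain ⟨b, hb, hbv⟩ := h n j c t hc ht htp
    refine ⟨b, hb, ?_⟩
    rw [hbv, decompose_of_mem_same 𝒜 ha]
  · intro h i j c t hc ht htp
    by_cases hin : i = n
    · subst hin
      obtain ⟨b, hb, hbv⟩ := h j c t hc ht htp
      refine ⟨b, hb, ?_⟩
      rw [hbv, decompose_of_mem_same 𝒜 ha]
    · refine ⟨0, I.zero_mem, ?_⟩
      rw [decompose_of_mem_ne 𝒜 ha (Ne.symm hin), mul_zero, Localization.mk_zero,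
        HomogeneousLocalization.val_zero]

/-- a fraction lies in `I` iff its numerator lies in `up I` -/
theorem fr_mem_iff {I : Ideal (AtPrime 𝒜 p)} (n : ℕ) (a s : A) (ha : a ∈ 𝒜 n) (hs : s ∈ 𝒜 n)
    (hsp : s ∈ p.primeCompl) : fr 𝒜 p n a s ha hs hsp ∈ I ↔ a ∈ up 𝒜 p I := by
  constructor
  · intro h
    rw [mem_up_of_mem 𝒜 p ha]
    intro j c t hc ht htp
    refine ⟨fr 𝒜 p n a s ha hs hsp * fr 𝒜 p (j + n) (c * s) t (SetLike.mul_mem_graded hc hs) ht htp,
      I.mul_mem_right _ h, ?_⟩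
    rw [HomogeneousLocalization.val_mul, val_fr, val_fr, Localization.mk_mul]
    apply mk_eq_of_mul_eq
    simp only [Submonoid.coe_mul]
    ring
  · intro h
    rw [mem_up_of_mem 𝒜 p ha] at h
    have hs' : s ∈ 𝒜 (0 + n) := by rw [zero_add]; exact hs
    obtain ⟨b, hb, hbv⟩ := h 0 1 s SetLike.GradedOne.one_mem hs' hsp
    have : b = fr 𝒜 p n a s ha hs hsp := by
      apply HomogeneousLocalization.val_injective
      rw [hbv, val_fr, one_mul]
    rw [← this]
    exact hb

theorem up_le_iff {I J : Ideal (AtPrime 𝒜 p)} : up 𝒜 p I ≤ up 𝒜 p J ↔ I ≤ J := by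
  constructor
  · intro h b hb
    obtain ⟨n, a, t, ha, ht, htp, rfl⟩ := exists_fr 𝒜 p b
    rw [fr_mem_iff] at hb ⊢
    exact h hb
  · exact up_mono 𝒜 p

theorem up_injective : Function.Injective (up 𝒜 p) := by
  intro I J h
  exact le_antisymm ((up_le_iff 𝒜 p).1 h.le) ((up_le_iff 𝒜 p).1 h.ge)

theorem up_strictMono : StrictMono (up 𝒜 p) := by
  intro I J h
  exact lt_of_le_of_ne (up_mono 𝒜 p h.le) fun h' => h.ne (up_injective 𝒜 p h')

theorem one_notMem_up {I : Ideal (AtPrime 𝒜 p)} (hI : I ≠ ⊤) : (1 : A) ∉ up 𝒜 p I := by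
  intro h
  apply hI
  rw [Ideal.eq_top_iff_one]
  have h1 : (1 : A) ∈ 𝒜 0 := SetLike.GradedOne.one_mem
  have h2 := (fr_mem_iff 𝒜 p (I := I) 0 1 1 h1 h1 (Submonoid.one_mem _)).2 h
  have : fr 𝒜 p 0 1 1 h1 h1 (Submonoid.one_mem _) = 1 := by
    apply HomogeneousLocalization.val_injective
    rw [val_fr, HomogeneousLocalization.val_one]
    exact Localization.mk_self (1 : p.primeCompl)
  rwa [this] at h2

/-- `up I ≤ p` for a proper ideal `I` -/
theorem up_le {I : Ideal (AtPrime 𝒜 p)} (hI : I ≠ ⊤) : up 𝒜 p I ≤ p := by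
  classical
  intro x hx
  rw [← sum_support_decompose 𝒜 x]
  refine Ideal.sum_mem _ fun i _ => ?_
  by_contra hxi
  apply hI
  rw [Ideal.eq_top_iff_one]
  have hxi' := up_isHomogeneous 𝒜 p I i hx
  have h2 := (fr_mem_iff 𝒜 p (I := I) i _ _ (decompose 𝒜 x i).2 (decompose 𝒜 x i).2 hxi).2 hxi'
  have : fr 𝒜 p i _ _ (decompose 𝒜 x i).2 (decompose 𝒜 x i).2 hxi = 1 := by
    apply HomogeneousLocalization.val_injective
    rw [val_fr, HomogeneousLocalization.val_one]
    exact Localization.mk_self (⟨_, hxi⟩ : p.primeCompl)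
  rwa [this] at h2

/-- `up` preserves primes -/
theorem up_isPrime (Q : Ideal (AtPrime 𝒜 p)) [hQ : Q.IsPrime] : (up 𝒜 p Q).IsPrime := by
  apply Ideal.IsHomogeneous.isPrime_of_homogeneous_mem_or_mem (up_isHomogeneous 𝒜 p Q)
  · intro h
    apply one_notMem_up 𝒜 p hQ.ne_top
    rw [h]
    exact Submodule.mem_top
  · rintro x y ⟨m, hx⟩ ⟨n, hy⟩ hxy
    by_contra hcon
    push Not at hcon
    obtain ⟨hx', hy'⟩ := hcon
    rw [mem_up_of_mem 𝒜 p hx] at hx'
    rw [mem_up_of_mem 𝒜 p hy] at hy'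
    push Not at hx' hy'
    obtain ⟨j, c, t, hc, ht, htp, h1⟩ := hx'
    obtain ⟨j', c', t', hc', ht', htp', h2⟩ := hy'
    have e1 : fr 𝒜 p (j + m) (c * x) t (SetLike.mul_mem_graded hc hx) ht htp ∉ Q := fun h =>
      h1 _ h (val_fr 𝒜 p _ _ _ _ _ _)
    have e2 : fr 𝒜 p (j' + n) (c' * y) t' (SetLike.mul_mem_graded hc' hy) ht' htp' ∉ Q := fun h =>
      h2 _ h (val_fr 𝒜 p _ _ _ _ _ _)
    have hxy' := (mem_up_of_mem 𝒜 p (SetLike.mul_mem_graded hx hy)).1 hxy (j + j') (c * c')
      (t * t') (SetLike.mul_mem_graded hc hc')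
      (by
        have : j + j' + (m + n) = j + m + (j' + n) := by omega
        rw [this]; exact SetLike.mul_mem_graded ht ht')
      (Submonoid.mul_mem _ htp htp')
    obtain ⟨b, hb, hbv⟩ := hxy'
    have : b = fr 𝒜 p (j + m) (c * x) t (SetLike.mul_mem_graded hc hx) ht htp *
        fr 𝒜 p (j' + n) (c' * y) t' (SetLike.mul_mem_graded hc' hy) ht' htp' := by
      apply HomogeneousLocalization.val_injective
      rw [hbv, HomogeneousLocalization.val_mul, val_fr, val_fr, Localization.mk_mul]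
      apply mk_eq_of_mul_eq
      simp only [Submonoid.coe_mul]
      ring
    rw [this] at hb
    rcases hQ.mem_or_mem hb with h | h
    · exact e1 h
    · exact e2 h

end Groth.Agent.Lib.Helper6.ProjCM
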