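import Mathlib
import Groth.Agent.Lib.Helper6.ProjCM.PCa

/-!
# Homogeneous localization at a homogeneous prime: contraction of ideals from `A_p`,
Noetherianity, and the height inequality (helper6)
-/

set_option autoImplicit false
set_option linter.unusedSectionVars false
set_option linter.unusedVariables false
set_option linter.unusedSimpArgs false
set_option linter.style.haveILetI false
set_option linter.overlappingInstances false
set_option maxHeartbeats 800000

noncomputable section

namespace Groth.Agent.Lib.Helper6.ProjCM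

open DirectSum HomogeneousLocalization Groth.Agent.Lib.Helper6.ProjNormal

universe u

variable {A : Type u} [CommRing A] (𝒜 : ℕ → AddSubgroup A) [GradedRing 𝒜]
  (p : Ideal A) [hp : p.IsPrime]

/-- the extension to `A_p` of an ideal of `A_(p)` lies in the extension of `up I` -/
theorem map_le_map_up (I : Ideal (AtPrime 𝒜 p)) :
    I.map (algebraMap (AtPrime 𝒜 p) (Localization.AtPrime p)) ≤
      (up 𝒜 p I).map (algebraMap A (Localization.AtPrime p)) := by
  rw [Ideal.map_le_iff_le_comap]
  intro b hb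
  obtain ⟨n, a, t, ha, ht, htp, rfl⟩ := exists_fr 𝒜 p b
  rw [Ideal.mem_comap, HomogeneousLocalization.algebraMap_apply, val_fr]
  have ha' := (fr_mem_iff 𝒜 p n a t ha ht htp).1 hb
  have h1 : Localization.mk a (⟨t, htp⟩ : p.primeCompl) =
      Localization.mk 1 (⟨t, htp⟩ : p.primeCompl) * algebraMap A (Localization.AtPrime p) a := by
    rw [← Localization.mk_one_eq_algebraMap, Localization.mk_mul]
    apply mk_eq_of_mul_eq
    simp only [Submonoid.coe_mul, OneMemClass.coe_one]
    ring
  rw [h1]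
  exact Ideal.mul_mem_left _ _ (Ideal.mem_map_of_mem _ ha')

/-- ideals of `A_(p)` are contracted from `A_p` -/
theorem mem_of_val_mem_map (I : Ideal (AtPrime 𝒜 p)) (b : AtPrime 𝒜 p)
    (h : b.val ∈ I.map (algebraMap (AtPrime 𝒜 p) (Localization.AtPrime p))) : b ∈ I := by
  have h1 := map_le_map_up 𝒜 p I h
  obtain ⟨n, β, s, hβ, hs, hsp, rfl⟩ := exists_fr 𝒜 p b
  rw [val_fr] at h1
  have h2 : algebraMap A (Localization.AtPrime p) β ∈
      (up 𝒜 p I).map (algebraMap A (Localization.AtPrime p)) := by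
    have h3 : algebraMap A (Localization.AtPrime p) β =
        algebraMap A (Localization.AtPrime p) s * Localization.mk β (⟨s, hsp⟩ : p.primeCompl) := by
      rw [← Localization.mk_one_eq_algebraMap, ← Localization.mk_one_eq_algebraMap,
        Localization.mk_mul]
      apply mk_eq_of_mul_eq
      simp only [Submonoid.coe_mul, OneMemClass.coe_one]
      ring
    rw [h3]
    exact Ideal.mul_mem_left _ _ h1
  rw [IsLocalization.mem_map_algebraMap_iff p.primeCompl] at h2
  obtain ⟨⟨⟨x', hx'⟩, u⟩, hxu⟩ := h2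
  rw [← map_mul, IsLocalization.eq_iff_exists p.primeCompl] at hxu
  obtain ⟨w, hw⟩ := hxu
  have hg : (w : A) * (u : A) ∉ p := p.primeCompl.mul_mem w.2 u.2
  have hgβ : (w : A) * (u : A) * β ∈ up 𝒜 p I := by
    have h4 : (w : A) * (u : A) * β = (w : A) * x' := by
      rw [← hw]; ring
    rw [h4]
    exact Ideal.mul_mem_left _ _ hx'
  obtain ⟨j, hj⟩ := exists_component_notMem 𝒜 p hg
  have h5 : (decompose 𝒜 ((w : A) * (u : A)) j : A) * β ∈ up 𝒜 p I := by
    have h6 := up_isHomogeneous 𝒜 p I (j + n) hgβ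
    rwa [coe_decompose_mul_add_of_right_mem 𝒜 hβ] at h6
  have h7 := (fr_mem_iff 𝒜 p (I := I) (j + n) _ _
    (SetLike.mul_mem_graded (decompose 𝒜 ((w : A) * (u : A)) j).2 hβ)
    (SetLike.mul_mem_graded (decompose 𝒜 ((w : A) * (u : A)) j).2 hs)
    (p.primeCompl.mul_mem hj hsp)).2 h5
  have h8 : fr 𝒜 p n β s hβ hs hsp = fr 𝒜 p (j + n) _ _
      (SetLike.mul_mem_graded (decompose 𝒜 ((w : A) * (u : A)) j).2 hβ)
      (SetLike.mul_mem_graded (decompose 𝒜 ((w : A) * (u : A)) j).2 hs)
      (p.primeCompl.mul_mem hj hsp) := by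
    apply HomogeneousLocalization.val_injective
    rw [val_fr, val_fr]
    apply mk_eq_of_mul_eq
    ring
  rw [h8]
  exact h7

theorem map_strictMono : StrictMono (fun I : Ideal (AtPrime 𝒜 p) =>
    I.map (algebraMap (AtPrime 𝒜 p) (Localization.AtPrime p))) := by
  intro I J hIJ
  refine lt_of_le_of_ne (Ideal.map_mono hIJ.le) fun h => hIJ.ne ?_
  apply le_antisymm hIJ.le
  intro b hb
  apply mem_of_val_mem_map 𝒜 p I b
  change b.val ∈ (fun I : Ideal (AtPrime 𝒜 p) =>
    I.map (algebraMap (AtPrime 𝒜 p) (Localization.AtPrime p))) I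
  rw [h]
  exact Ideal.mem_map_of_mem _ hb

/-- the homogeneous localization of a Noetherian graded ring at a prime is Noetherian -/
theorem isNoetherianRing_atPrime [IsNoetherianRing A] : IsNoetherianRing (AtPrime 𝒜 p) := by
  have hS : IsNoetherianRing (Localization.AtPrime p) :=
    IsLocalization.isNoetherianRing p.primeCompl _ inferInstance
  rw [isNoetherianRing_iff, isNoetherian_iff'] at hS ⊢
  exact (map_strictMono 𝒜 p).wellFoundedGT

/-- heights do not drop along `up` -/
theorem height_le_height_up (Q : Ideal (AtPrime 𝒜 p)) [hQ : Q.IsPrime] :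
    Q.height ≤ (up 𝒜 p Q).height := by
  let g : PrimeSpectrum (AtPrime 𝒜 p) → PrimeSpectrum A := fun Q =>
    ⟨up 𝒜 p Q.asIdeal, up_isPrime 𝒜 p Q.asIdeal⟩
  have hg : StrictMono g := by
    intro Q₁ Q₂ h
    rw [← PrimeSpectrum.asIdeal_lt_asIdeal] at h ⊢
    exact up_strictMono 𝒜 p h
  have h1 := Order.height_le_height_apply_of_strictMono g hg ⟨Q, hQ⟩
  rw [← PrimeSpectrum.height_eq_orderHeight, ← PrimeSpectrum.height_eq_orderHeight] at h1
  exact h1

theorem height_le_of_isPrime (Q : Ideal (AtPrime 𝒜 p)) [hQ : Q.IsPrime] :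
    Q.height ≤ p.height :=
  (height_le_height_up 𝒜 p Q).trans (Ideal.height_mono (up_le 𝒜 p hQ.ne_top))

/-- `dim A_(p) ≤ dim A_p` -/
theorem ringKrullDim_atPrime_le :
    ringKrullDim (AtPrime 𝒜 p) ≤ ringKrullDim (Localization.AtPrime p) := by
  rw [← IsLocalRing.maximalIdeal_height_eq_ringKrullDim,
    IsLocalization.AtPrime.ringKrullDim_eq_height p (Localization.AtPrime p)]
  exact_mod_cast height_le_of_isPrime 𝒜 p (IsLocalRing.maximalIdeal (AtPrime 𝒜 p))

end Groth.Agent.Lib.Helper6.ProjCM
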