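import Mathlib

/-!
# Graded prime avoidance for `ℕ`-graded rings (helper6)

If the homogeneous elements of positive degree of an ideal `I` are not all contained in any single
one of finitely many primes, then one of them avoids all of these primes.
-/

set_option autoImplicit false
set_option linter.unusedSectionVars false
set_option linter.unusedVariables false
set_option linter.unusedSimpArgs false
set_option linter.style.haveILetI false
set_option linter.overlappingInstances false
set_option maxHeartbeats 800000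

noncomputable section

namespace Groth.Agent.Lib.Helper6.ProjCM

open DirectSum

universe u

variable {A : Type u} [CommRing A] (𝒜 : ℕ → AddSubgroup A) [GradedRing 𝒜]

/-- homogeneous elements of positive degree of an ideal -/
def posHom (I : Ideal A) : Set A := {x | x ∈ I ∧ ∃ i, 0 < i ∧ x ∈ 𝒜 i}

/-- graded prime avoidance, homogeneous primes -/
theorem gpa_homog (I : Ideal A) (s : Finset (Ideal A))
    (hs : ∀ P ∈ s, P.IsPrime ∧ P.IsHomogeneous 𝒜 ∧ ∃ x ∈ posHom 𝒜 I, x ∉ P) (hne : s.Nonempty) :
    ∃ x ∈ posHom 𝒜 I, ∀ P ∈ s, x ∉ P := by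
  classical
  induction s using Finset.induction_on with
  | empty => exact absurd hne Finset.not_nonempty_empty
  | insert P₀ s' hP₀ ih =>
    obtain ⟨hprime, hhom, h₀, hh₀, hh₀P⟩ := hs P₀ (Finset.mem_insert_self _ _)
    rcases s'.eq_empty_or_nonempty with hemp | hne'
    · subst hemp
      refine ⟨h₀, hh₀, fun P hP => ?_⟩
      rw [Finset.mem_insert] at hP
      rcases hP with rfl | hP
      · exact hh₀P
      · exact absurd hP (Finset.notMem_empty _)
    · obtain ⟨x', hx', hx'P⟩ := ih (fun P hP => hs P (Finset.mem_insert_of_mem hP)) hne'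
      by_cases hx'0 : x' ∈ P₀
      swap
      · refine ⟨x', hx', fun P hP => ?_⟩
        rcases Finset.mem_insert.1 hP with rfl | h
        · exact hx'0
        · exact hx'P P h
      have hw : ∀ P : Ideal A, P ∈ s' → ¬ P ≤ P₀ →
          ∃ w, SetLike.IsHomogeneousElem 𝒜 w ∧ w ∈ P ∧ w ∉ P₀ := by
        intro P hP hle
        by_contra hcon
        push Not at hcon
        apply hle
        intro y hy
        have hPh := (hs P (Finset.mem_insert_of_mem hP)).2.1
        rw [← sum_support_decompose 𝒜 y]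
        exact Ideal.sum_mem _ fun i _ => hcon _ ⟨i, (decompose 𝒜 y i).2⟩ (hPh i hy)
      choose! w hwh hwP hwP₀ using hw
      set s'' := s'.filter (fun P => ¬ P ≤ P₀) with hs''
      have hs''mem : ∀ P, P ∈ s'' ↔ P ∈ s' ∧ ¬ P ≤ P₀ := fun P => Finset.mem_filter
      obtain ⟨hh₀I, i₀, hi₀, hh₀deg⟩ := hh₀
      obtain ⟨hx'I, i', hi', hx'deg⟩ := hx'
      have hprodhom : SetLike.IsHomogeneousElem 𝒜 (∏ P ∈ s'', w P) :=
        Finset.prod_induction _ (fun a => SetLike.IsHomogeneousElem 𝒜 a)
          (fun a b ha hb => ha.mul hb) (SetLike.isHomogeneousElem_one 𝒜)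
          (fun P hP => hwh P ((hs''mem P).1 hP).1 ((hs''mem P).1 hP).2)
      obtain ⟨e, he⟩ := hprodhom
      set z := h₀ * ∏ P ∈ s'', w P with hz
      have hzdeg : z ∈ 𝒜 (i₀ + e) := SetLike.mul_mem_graded hh₀deg he
      have hzI : z ∈ I := Ideal.mul_mem_right _ _ hh₀I
      have hzP₀ : z ∉ P₀ := by
        intro h
        rcases hprime.mem_or_mem h with h | h
        · exact hh₀P h
        · rw [Ideal.IsPrime.prod_mem_iff] at h
          obtain ⟨P, hP, hwP'⟩ := h
          exact hwP₀ P ((hs''mem P).1 hP).1 ((hs''mem P).1 hP).2 hwP'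
      have hzP : ∀ P ∈ s'', z ∈ P := by
        intro P hP
        apply Ideal.mul_mem_left
        exact Ideal.mem_of_dvd _ (Finset.dvd_prod_of_mem w hP)
          (hwP P ((hs''mem P).1 hP).1 ((hs''mem P).1 hP).2)
      have hk : 0 < i₀ + e := by omega
      set x := x' ^ (i₀ + e) + z ^ i' with hx
      have hxdeg : x ∈ 𝒜 ((i₀ + e) * i') := by
        apply AddSubgroup.add_mem
        · have := SetLike.pow_mem_graded (i₀ + e) hx'deg
          rwa [smul_eq_mul] at this
        · have := SetLike.pow_mem_graded i' hzdeg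
          rwa [smul_eq_mul, mul_comm] at this
      have hxI : x ∈ I :=
        I.add_mem (Ideal.pow_mem_of_mem _ hx'I _ hk) (Ideal.pow_mem_of_mem _ hzI _ hi')
      refine ⟨x, ⟨hxI, (i₀ + e) * i', Nat.mul_pos hk hi', hxdeg⟩, ?_⟩
      have hxP₀ : x ∉ P₀ := by
        intro h
        have h1 : x' ^ (i₀ + e) ∈ P₀ := Ideal.pow_mem_of_mem _ hx'0 _ hk
        have h2 : z ^ i' ∈ P₀ := by
          have : z ^ i' = x - x' ^ (i₀ + e) := by rw [hx]; ring
          rw [this]
          exact P₀.sub_mem h h1
        exact hzP₀ (hprime.mem_of_pow_mem _ h2)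
      intro P hP
      rcases Finset.mem_insert.1 hP with rfl | hP'
      · exact hxP₀
      · by_cases hle : P ≤ P₀
        · exact fun h => hxP₀ (hle h)
        · have hPprime := (hs P hP).1
          have hP'' : P ∈ s'' := (hs''mem P).2 ⟨hP', hle⟩
          intro h
          have h1 : z ^ i' ∈ P := Ideal.pow_mem_of_mem _ (hzP P hP'') _ hi'
          have h2 : x' ^ (i₀ + e) ∈ P := by
            have : x' ^ (i₀ + e) = x - z ^ i' := by rw [hx]; ring
            rw [this]
            exact P.sub_mem h h1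
          exact hx'P P hP' (hPprime.mem_of_pow_mem _ h2)

/-- graded prime avoidance, arbitrary primes -/
theorem gpa (I : Ideal A) (s : Finset (Ideal A))
    (hs : ∀ P ∈ s, P.IsPrime ∧ ∃ x ∈ posHom 𝒜 I, x ∉ P) (hne : s.Nonempty) :
    ∃ x ∈ posHom 𝒜 I, ∀ P ∈ s, x ∉ P := by
  classical
  have h1 := gpa_homog 𝒜 I (s.image fun P => (P.homogeneousCore 𝒜).toIdeal)
    (by
      intro P' hP'
      rw [Finset.mem_image] at hP'
      obtain ⟨P, hP, rfl⟩ := hP'
      obtain ⟨hprime, x, hx, hxP⟩ := hs P hP
      exact ⟨hprime.homogeneousCore, (P.homogeneousCore 𝒜).isHomogeneous, x, hx,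
        fun h => hxP (Ideal.toIdeal_homogeneousCore_le 𝒜 P h)⟩)
    (hne.image _)
  obtain ⟨x, hx, hxP⟩ := h1
  refine ⟨x, hx, fun P hP h => ?_⟩
  obtain ⟨_, i, _, hxi⟩ := hx
  exact hxP _ (Finset.mem_image_of_mem _ hP)
    (Ideal.mem_homogeneousCore_of_homogeneous_of_mem ⟨i, hxi⟩ h)

end Groth.Agent.Lib.Helper6.ProjCM
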