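import Mathlib
import Groth.Agent.Lib.Helper6.ProjCM.PCb
import Groth.Agent.Lib.Helper6.ProjCM.PCc
import Groth.Agent.Lib.Helper8.Depth33
import Groth.Agent.Lib.Helper8.Depth7

/-!
# Depth of the homogeneous localization at a homogeneous prime (helper6)

For a Noetherian `ℕ`-graded ring `A`, a homogeneous prime `p` and a homogeneous `f ∉ p` of
positive degree: `depth A_p ≤ depth A_(p)`.
-/

set_option autoImplicit false
set_option linter.unusedSectionVars false
set_option linter.unusedVariables false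
set_option linter.unusedSimpArgs false
set_option linter.style.haveILetI false
set_option linter.overlappingInstances false
set_option maxHeartbeats 800000

noncomputable section

namespace Groth.Agent.Lib.Helper6.ProjCM

open DirectSum HomogeneousLocalization IsLocalRing RingTheory.Sequence LocCoh
  Groth.Agent.Lib.Helper6.ProjNormal Groth.Agent.Helper8 Groth.Agent.Helper8.Depth

universe u

variable {A : Type u} [CommRing A] (𝒜 : ℕ → AddSubgroup A) [GradedRing 𝒜]
  (p : Ideal A) [hp : p.IsPrime]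

theorem val_mem_maximalIdeal_iff (b : AtPrime 𝒜 p) :
    b.val ∈ maximalIdeal (Localization.AtPrime p) ↔ b ∈ maximalIdeal (AtPrime 𝒜 p) := by
  rw [mem_maximalIdeal, mem_maximalIdeal, mem_nonunits_iff, mem_nonunits_iff,
    HomogeneousLocalization.isUnit_iff_isUnit_val]

theorem pow_mem_mul {x : A} {i : ℕ} (hx : x ∈ 𝒜 i) (d : ℕ) : x ^ d ∈ 𝒜 (d * i) := by
  have := SetLike.pow_mem_graded d hx
  rwa [smul_eq_mul] at this

section Frac

variable {f : A} {d : ℕ} (hf : f ∈ 𝒜 d) (hfp : f ∉ p)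

/-- the degree zero fraction `x ^ d / f ^ i` for `x` of degree `i` -/
def frac {x : A} {i : ℕ} (hx : x ∈ 𝒜 i) : AtPrime 𝒜 p :=
  fr 𝒜 p (d * i) (x ^ d) (f ^ i) (pow_mem_mul 𝒜 hx d)
    (by have := pow_mem_mul 𝒜 hf i; rwa [mul_comm] at this) (p.primeCompl.pow_mem hfp i)

theorem val_frac {x : A} {i : ℕ} (hx : x ∈ 𝒜 i) :
    (frac 𝒜 p hf hfp hx).val =
      Localization.mk (x ^ d) (⟨f ^ i, p.primeCompl.pow_mem hfp i⟩ : p.primeCompl) :=
  val_fr 𝒜 p _ _ _ _ _ _

theorem val_frac_mul {x : A} {i : ℕ} (hx : x ∈ 𝒜 i) :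
    algebraMap A (Localization.AtPrime p) (f ^ i) * (frac 𝒜 p hf hfp hx).val =
      algebraMap A (Localization.AtPrime p) (x ^ d) := by
  rw [val_frac, ← Localization.mk_one_eq_algebraMap, ← Localization.mk_one_eq_algebraMap,
    Localization.mk_mul]
  apply mk_eq_of_mul_eq
  simp only [Submonoid.coe_mul, OneMemClass.coe_one]
  ring

theorem val_frac_eq {x : A} {i : ℕ} (hx : x ∈ 𝒜 i) :
    (frac 𝒜 p hf hfp hx).val =
      Localization.mk 1 (⟨f ^ i, p.primeCompl.pow_mem hfp i⟩ : p.primeCompl) *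
        algebraMap A (Localization.AtPrime p) (x ^ d) := by
  rw [val_frac, ← Localization.mk_one_eq_algebraMap, Localization.mk_mul]
  apply mk_eq_of_mul_eq
  simp only [Submonoid.coe_mul, OneMemClass.coe_one]
  ring

theorem frac_mem_maximalIdeal (hd : 0 < d) {x : A} {i : ℕ} (hx : x ∈ 𝒜 i) (hxp : x ∈ p) :
    frac 𝒜 p hf hfp hx ∈ maximalIdeal (AtPrime 𝒜 p) := by
  rw [← val_mem_maximalIdeal_iff, val_frac_eq]
  apply Ideal.mul_mem_left
  rw [IsLocalization.AtPrime.to_map_mem_maximal_iff (Localization.AtPrime p) p]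
  exact Ideal.pow_mem_of_mem _ hxp _ hd

/-- if `val (frac x)` lies in a prime of `A_p` then `x` lies in its contraction -/
theorem mem_comap_of_val_frac_mem {x : A} {i : ℕ} (hx : x ∈ 𝒜 i)
    (𝔓 : Ideal (Localization.AtPrime p)) [h𝔓 : 𝔓.IsPrime]
    (h : (frac 𝒜 p hf hfp hx).val ∈ 𝔓) : x ∈ 𝔓.comap (algebraMap A (Localization.AtPrime p)) := by
  have h1 : algebraMap A (Localization.AtPrime p) (x ^ d) ∈ 𝔓 := by
    rw [← val_frac_mul 𝒜 p hf hfp hx]
    exact Ideal.mul_mem_left _ _ h
  rw [map_pow] at h1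
  exact h𝔓.mem_of_pow_mem _ h1

end Frac

/-- a sequence of `A_(p)` whose image is weakly regular on `A_p` is weakly regular -/
theorem isWeaklyRegular_of_map (ys : List (AtPrime 𝒜 p))
    (h : IsWeaklyRegular (Localization.AtPrime p)
      (ys.map (algebraMap (AtPrime 𝒜 p) (Localization.AtPrime p)))) :
    IsWeaklyRegular (AtPrime 𝒜 p) ys := by
  rw [isWeaklyRegular_iff] at h ⊢
  intro i hi
  have hi' : i < (ys.map (algebraMap (AtPrime 𝒜 p) (Localization.AtPrime p))).length := by
    rw [List.length_map]; exact hi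
  have h1 := h i hi'
  rw [isSMulRegular_quotient_iff_mem_of_smul_mem] at h1 ⊢
  intro b hb
  rw [smul_eq_mul, Ideal.mul_top] at hb ⊢
  have h2 := h1 b.val
  rw [smul_eq_mul, Ideal.mul_top, List.getElem_map, ← List.map_take, ← Ideal.map_ofList] at h2
  apply mem_of_val_mem_map 𝒜 p
  apply h2
  have h3 := Ideal.mem_map_of_mem (algebraMap (AtPrime 𝒜 p) (Localization.AtPrime p)) hb
  rwa [smul_eq_mul, map_mul] at h3

section Generic

variable (S : Type u) [CommRing S] [IsLocalRing S] [IsNoetherianRing S]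

theorem quot_ofList_nontrivial (zs : List S) (hz : ∀ r ∈ zs, r ∈ maximalIdeal S) :
    Nontrivial (S ⧸ (Ideal.ofList zs • (⊤ : Submodule S S))) := by
  rw [Submodule.Quotient.nontrivial_iff]
  intro htop
  have hne : maximalIdeal S • (⊤ : Submodule S S) ≠ ⊤ := smul_top_ne_top_of_local S S
  apply hne
  have h1 : Ideal.ofList zs • (⊤ : Submodule S S) ≤ maximalIdeal S • (⊤ : Submodule S S) :=
    Submodule.smul_mono_left (Ideal.span_le.2 fun r hr => hz r hr)
  rw [htop] at h1
  exact top_le_iff.1 h1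

theorem depth_quot_ofList_ne_zero (zs : List S) (hz : ∀ r ∈ zs, r ∈ maximalIdeal S)
    (hreg : IsWeaklyRegular S zs) (hn : ((zs.length + 1 : ℕ) : ℕ∞) ≤ depth S S) :
    depth S (S ⧸ (Ideal.ofList zs • (⊤ : Submodule S S))) ≠ 0 := by
  have hne : maximalIdeal S • (⊤ : Submodule S S) ≠ ⊤ := smul_top_ne_top_of_local S S
  have hdepth := idealDepth_quotient_ofList_add_length (I := maximalIdeal S) zs S hne hreg hz
  intro h0
  have h1 : idealDepth (maximalIdeal S) (S ⧸ (Ideal.ofList zs • (⊤ : Submodule S S))) = 0 := h0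
  rw [h1, zero_add] at hdepth
  have h2 : ((zs.length + 1 : ℕ) : ℕ∞) ≤ (zs.length : ℕ∞) := by
    rw [hdepth]; exact hn
  have h3 : zs.length + 1 ≤ zs.length := by exact_mod_cast h2
  omega

end Generic

section Avoid

variable [IsNoetherianRing A] (hph : p.IsHomogeneous 𝒜) {f : A} {d : ℕ} (hd : 0 < d)
  (hf : f ∈ 𝒜 d) (hfp : f ∉ p)

include hph hd hf hfp in
/-- a homogeneous element of positive degree of `p` outside all contractions of the associated
primes of a module of positive depth over `A_p` -/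
theorem exists_homog_avoid (S : Type u) [CommRing S] [Algebra A S] [IsLocalization.AtPrime S p]
    [IsLocalRing S] [IsNoetherianRing S]
    (N : Type u) [AddCommGroup N] [Module S N] [Module.Finite S N] [Nontrivial N]
    (hass : maximalIdeal S ∉ associatedPrimes S N) :
    ∃ (x : A) (i : ℕ), 0 < i ∧ x ∈ 𝒜 i ∧ x ∈ p ∧
      ∀ 𝔓 ∈ associatedPrimes S N, x ∉ 𝔓.comap (algebraMap A S) := by
  classical
  set s : Finset (Ideal A) :=
    (associatedPrimes.finite S N).toFinset.image (Ideal.comap (algebraMap A S)) with hs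
  have hs_mem : ∀ P ∈ s, ∃ 𝔓 ∈ associatedPrimes S N, P = 𝔓.comap (algebraMap A S) := by
    intro P hP
    rw [hs, Finset.mem_image] at hP
    obtain ⟨𝔓, h𝔓, rfl⟩ := hP
    exact ⟨𝔓, (Set.Finite.mem_toFinset _).1 h𝔓, rfl⟩
  have hsne : s.Nonempty := by
    obtain ⟨𝔓, h𝔓⟩ := associatedPrimes.nonempty S N
    exact ⟨𝔓.comap (algebraMap A S),
      Finset.mem_image_of_mem _ ((Set.Finite.mem_toFinset _).2 h𝔓)⟩
  have hcond : ∀ P ∈ s, P.IsPrime ∧ ∃ x ∈ posHom 𝒜 p, x ∉ P := by
    intro P hP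
    obtain ⟨𝔓, h𝔓, rfl⟩ := hs_mem P hP
    haveI h𝔓p : 𝔓.IsPrime := h𝔓.isPrime
    refine ⟨Ideal.comap_isPrime _ _, ?_⟩
    have hle : 𝔓.comap (algebraMap A S) ≤ p := by
      have h1 : 𝔓 ≤ maximalIdeal S := le_maximalIdeal h𝔓p.ne_top
      have h2 := Ideal.comap_mono (f := algebraMap A S) h1
      rwa [show (maximalIdeal S).comap (algebraMap A S) = p from
        IsLocalization.AtPrime.under_maximalIdeal S p] at h2
    have hnle : ¬ p ≤ 𝔓.comap (algebraMap A S) := by
      intro h
      rw [← Ideal.map_le_iff_le_comap, IsLocalization.AtPrime.map_eq_maximalIdeal p S] at h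
      have h1 : maximalIdeal S = 𝔓 :=
        (maximalIdeal.isMaximal S).eq_of_le h𝔓p.ne_top h
      exact hass (h1 ▸ h𝔓)
    obtain ⟨y, hyp, hyP⟩ := Set.not_subset.1 hnle
    have hcomp : ∃ i, (decompose 𝒜 y i : A) ∉ 𝔓.comap (algebraMap A S) := by
      by_contra hcon
      push Not at hcon
      apply hyP
      rw [← sum_support_decompose 𝒜 y]
      exact Ideal.sum_mem _ fun i _ => hcon i
    obtain ⟨i, hi⟩ := hcomp
    refine ⟨(decompose 𝒜 y i : A) * f, ⟨Ideal.mul_mem_right _ _ (hph i hyp), i + d, by omega,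
      SetLike.mul_mem_graded (decompose 𝒜 y i).2 hf⟩, ?_⟩
    intro h
    rcases (Ideal.comap_isPrime (algebraMap A S) 𝔓).mem_or_mem h with h | h
    · exact hi h
    · exact hfp (hle h)
  obtain ⟨x, ⟨hxp, i, hipos, hxi⟩, hxavoid⟩ := gpa 𝒜 p s hcond hsne
  refine ⟨x, i, hipos, hxi, hxp, fun 𝔓 h𝔓 => ?_⟩
  exact hxavoid _ (Finset.mem_image_of_mem _ ((Set.Finite.mem_toFinset _).2 h𝔓))

include hph hd hf hfp in
/-- a degree zero fraction in the maximal ideal, regular on a module of positive depth -/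
theorem exists_frac_regular
    (N : Type u) [AddCommGroup N] [Module (Localization.AtPrime p) N]
    [Module.Finite (Localization.AtPrime p) N] [Nontrivial N]
    (hdN : depth (Localization.AtPrime p) N ≠ 0) :
    ∃ y : AtPrime 𝒜 p, y ∈ maximalIdeal (AtPrime 𝒜 p) ∧ IsSMulRegular N y.val := by
  have hass : maximalIdeal (Localization.AtPrime p) ∉
      associatedPrimes (Localization.AtPrime p) N := fun h =>
    hdN ((depth_eq_zero_iff (Localization.AtPrime p) N).2 h)
  obtain ⟨x, i, hipos, hxi, hxp, havoid⟩ :=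
    exists_homog_avoid 𝒜 p hph hd hf hfp (Localization.AtPrime p) N hass
  refine ⟨frac 𝒜 p hf hfp hxi, frac_mem_maximalIdeal 𝒜 p hf hfp hd hxi hxp, ?_⟩
  by_contra hnr
  have h1 : (frac 𝒜 p hf hfp hxi).val ∈
      ({r : Localization.AtPrime p | IsSMulRegular N r}ᶜ : Set (Localization.AtPrime p)) := hnr
  rw [← biUnion_associatedPrimes_eq_compl_regular (Localization.AtPrime p) N] at h1
  simp only [Set.mem_iUnion] at h1
  obtain ⟨𝔓, h𝔓, hy𝔓⟩ := h1
  haveI h𝔓p : 𝔓.IsPrime := h𝔓.isPrime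
  exact havoid 𝔓 h𝔓 (mem_comap_of_val_frac_mem 𝒜 p hf hfp hxi 𝔓 hy𝔓)

include hph hd hf hfp in
/-- lifting regular sequences of `A_p` to sequences of degree zero fractions -/
theorem exists_regular_list (n : ℕ)
    (hn : (n : ℕ∞) ≤ depth (Localization.AtPrime p) (Localization.AtPrime p)) :
    ∃ ys : List (AtPrime 𝒜 p), ys.length = n ∧ (∀ y ∈ ys, y ∈ maximalIdeal (AtPrime 𝒜 p)) ∧
      IsWeaklyRegular (Localization.AtPrime p)
        (ys.map (algebraMap (AtPrime 𝒜 p) (Localization.AtPrime p))) := by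
  induction n with
  | zero => exact ⟨[], rfl, fun y hy => absurd hy (List.not_mem_nil), IsWeaklyRegular.nil _ _⟩
  | succ n ih =>
    have hn' : (n : ℕ∞) ≤ depth (Localization.AtPrime p) (Localization.AtPrime p) :=
      le_trans (by exact_mod_cast Nat.le_succ n) hn
    obtain ⟨ys, hlen, hmem, hreg⟩ := ih hn'
    have hzmem : ∀ r ∈ ys.map (algebraMap (AtPrime 𝒜 p) (Localization.AtPrime p)),
        r ∈ maximalIdeal (Localization.AtPrime p) := by
      intro r hr
      rw [List.mem_map] at hr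
      obtain ⟨y, hy, rfl⟩ := hr
      rw [HomogeneousLocalization.algebraMap_apply, val_mem_maximalIdeal_iff]
      exact hmem y hy
    have hzlen : (ys.map (algebraMap (AtPrime 𝒜 p) (Localization.AtPrime p))).length = n := by
      rw [List.length_map, hlen]
    haveI := quot_ofList_nontrivial (Localization.AtPrime p) _ hzmem
    have hdN := depth_quot_ofList_ne_zero (Localization.AtPrime p) _ hzmem hreg
      (by rw [hzlen]; exact hn)
    obtain ⟨y, hym, hyreg⟩ := exists_frac_regular 𝒜 p hph hd hf hfp _ hdN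
    refine ⟨ys ++ [y], by rw [List.length_append, hlen, List.length_singleton], ?_, ?_⟩
    · intro y' hy'
      rw [List.mem_append, List.mem_singleton] at hy'
      rcases hy' with h | rfl
      · exact hmem y' h
      · exact hym
    · rw [List.map_append, List.map_singleton, isWeaklyRegular_append_iff]
      refine ⟨hreg, ?_⟩
      rw [isWeaklyRegular_singleton_iff]
      exact hyreg

include hph hd hf hfp in
/-- `depth A_p ≤ depth A_(p)` -/
theorem depth_le_depth_atPrime :
    depth (Localization.AtPrime p) (Localization.AtPrime p) ≤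
      depth (AtPrime 𝒜 p) (AtPrime 𝒜 p) := by
  apply ENat.forall_natCast_le_iff_le.1
  intro n hn
  obtain ⟨ys, hlen, hmem, hreg⟩ := exists_regular_list 𝒜 p hph hd hf hfp n hn
  have h1 := isWeaklyRegular_of_map 𝒜 p ys hreg
  have h2 := length_le_idealDepth (I := maximalIdeal (AtPrime 𝒜 p)) h1 hmem
  rw [hlen] at h2
  exact h2

end Avoid

end Groth.Agent.Lib.Helper6.ProjCM
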