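import Mathlib
import Groth.Agent.Lib.Helper6.ProjCM.PCd
import Groth.Agent.Lib.Helper6.FiltBl.FBg

/-!
# Cohen–Macaulayness and Serre's conditions for the homogeneous localization at a
homogeneous prime (helper6)
-/

set_option autoImplicit false
set_option linter.unusedSectionVars false
set_option linter.unusedVariables false
set_option linter.unusedSimpArgs false
set_option linter.style.haveILetI false
set_option linter.overlappingInstances false
set_option maxHeartbeats 800000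

noncomputable section

namespace Groth.Agent.Lib.Helper6.ProjCM

open DirectSum HomogeneousLocalization IsLocalRing RingTheory.Sequence LocCoh
  Groth.Agent.Lib.Helper6.ProjNormal Groth.Agent.Helper8 Groth.Agent.Helper8.Depth
  Groth.Agent.Lib.Helper6.FiltBl

universe u

variable {A : Type u} [CommRing A] (𝒜 : ℕ → AddSubgroup A) [GradedRing 𝒜]
  (p : Ideal A) [hp : p.IsPrime]

section CM

variable [IsNoetherianRing A] (hph : p.IsHomogeneous 𝒜) {f : A} {d : ℕ} (hd : 0 < d)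
  (hf : f ∈ 𝒜 d) (hfp : f ∉ p)

include hph hd hf hfp in
/-- if `A_p` is Cohen–Macaulay then so is `A_(p)` -/
theorem cm_atPrime (hCM : IsCohenMacaulayLocalRing (Localization.AtPrime p)) :
    IsCohenMacaulayLocalRing (AtPrime 𝒜 p) := by
  haveI := isNoetherianRing_atPrime 𝒜 p
  rw [cm_iff_dim_eq_depth] at hCM ⊢
  apply le_antisymm
  · calc ringKrullDim (AtPrime 𝒜 p) ≤ ringKrullDim (Localization.AtPrime p) :=
        ringKrullDim_atPrime_le 𝒜 p
      _ = ((depth (Localization.AtPrime p) (Localization.AtPrime p) : ℕ∞) : WithBot ℕ∞) := hCM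
      _ ≤ ((depth (AtPrime 𝒜 p) (AtPrime 𝒜 p) : ℕ∞) : WithBot ℕ∞) := by
        exact_mod_cast depth_le_depth_atPrime 𝒜 p hph hd hf hfp
  · have h := depth_le_supportDim (A := AtPrime 𝒜 p) (M := AtPrime 𝒜 p)
    rwa [Module.supportDim_self_eq_ringKrullDim] at h

end CM

section Loc

variable {f : A} {d : ℕ} (hd : 0 < d) (hf : f ∈ 𝒜 d) (hfp : f ∉ p)
  (Q : Ideal (AtPrime 𝒜 p)) [hQ : Q.IsPrime]

instance instUpIsPrime : (up 𝒜 p Q).IsPrime := up_isPrime 𝒜 p Q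

theorem primeCompl_le_up :
    p.primeCompl ≤ (up 𝒜 p Q).primeCompl := fun x hx h => hx (up_le 𝒜 p hQ.ne_top h)

include hfp in
theorem f_notMem_up : f ∉ up 𝒜 p Q := fun h => hfp (up_le 𝒜 p hQ.ne_top h)

/-- the comparison map `A_(p) → A_(P)` for `P = up Q` -/
def cmpMap : AtPrime 𝒜 p →+* AtPrime 𝒜 (up 𝒜 p Q) :=
  HomogeneousLocalization.mapId 𝒜 (primeCompl_le_up 𝒜 p Q)

theorem val_cmpMap_fr (n : ℕ) (a s : A) (ha : a ∈ 𝒜 n) (hs : s ∈ 𝒜 n) (hsp : s ∈ p.primeCompl) :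
    (cmpMap 𝒜 p Q (fr 𝒜 p n a s ha hs hsp)).val =
      Localization.mk a (⟨s, primeCompl_le_up 𝒜 p Q hsp⟩ : (up 𝒜 p Q).primeCompl) := by
  change (HomogeneousLocalization.mk _).val = _
  rw [HomogeneousLocalization.val_mk]
  rfl

/-- a fraction outside `Q` becomes a unit -/
theorem isUnit_cmpMap (y : AtPrime 𝒜 p) (hy : y ∉ Q) : IsUnit (cmpMap 𝒜 p Q y) := by
  obtain ⟨n, a, s, ha, hs, hsp, rfl⟩ := exists_fr 𝒜 p y
  rw [fr_mem_iff] at hy
  have hsP : s ∈ (up 𝒜 p Q).primeCompl := primeCompl_le_up 𝒜 p Q hsp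
  refine IsUnit.of_mul_eq_one (fr 𝒜 (up 𝒜 p Q) n s a hs ha hy) ?_
  apply HomogeneousLocalization.val_injective
  rw [HomogeneousLocalization.val_mul, val_cmpMap_fr, val_fr, HomogeneousLocalization.val_one,
    Localization.mk_mul, ← Localization.mk_one]
  apply mk_eq_of_mul_eq
  simp only [Submonoid.coe_mul, OneMemClass.coe_one]
  ring

include hd hf hfp in
/-- every element of `A_(P)` is a fraction of elements of `A_(p)` with denominator outside `Q` -/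
theorem cmpMap_surj (z : AtPrime 𝒜 (up 𝒜 p Q)) :
    ∃ (x : AtPrime 𝒜 p) (y : AtPrime 𝒜 p), y ∉ Q ∧ z * cmpMap 𝒜 p Q y = cmpMap 𝒜 p Q x := by
  obtain ⟨n, a, s, ha, hs, hsP, rfl⟩ := exists_fr 𝒜 (up 𝒜 p Q) z
  obtain ⟨e, rfl⟩ := Nat.exists_eq_succ_of_ne_zero (Nat.pos_iff_ne_zero.1 hd)
  have hdeg : a * s ^ e ∈ 𝒜 ((e + 1) * n) := by
    have h1 := SetLike.mul_mem_graded ha (pow_mem_mul 𝒜 hs e)
    have h2 : n + e * n = (e + 1) * n := by ring
    rwa [h2] at h1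
  have hfdeg : f ^ n ∈ 𝒜 ((e + 1) * n) := by
    have h1 := pow_mem_mul 𝒜 hf n
    rwa [mul_comm] at h1
  have hfn : f ^ n ∈ p.primeCompl := p.primeCompl.pow_mem hfp n
  refine ⟨fr 𝒜 p ((e + 1) * n) (a * s ^ e) (f ^ n) hdeg hfdeg hfn,
    fr 𝒜 p ((e + 1) * n) (s ^ (e + 1)) (f ^ n) (pow_mem_mul 𝒜 hs (e + 1)) hfdeg hfn, ?_, ?_⟩
  · rw [fr_mem_iff]
    intro h
    exact hsP ((up_isPrime 𝒜 p Q).mem_of_pow_mem _ h)
  · apply HomogeneousLocalization.val_injective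
    rw [HomogeneousLocalization.val_mul, val_cmpMap_fr, val_cmpMap_fr, val_fr, Localization.mk_mul]
    apply mk_eq_of_mul_eq
    simp only [Submonoid.coe_mul]
    ring

include hd hf hfp in
/-- the kernel of the comparison map is killed by elements outside `Q` -/
theorem cmpMap_ker (w : AtPrime 𝒜 p) (hw : cmpMap 𝒜 p Q w = 0) :
    ∃ c : AtPrime 𝒜 p, c ∉ Q ∧ c * w = 0 := by
  obtain ⟨n, a, s, ha, hs, hsp, rfl⟩ := exists_fr 𝒜 p w
  have h1 := congrArg HomogeneousLocalization.val hw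
  rw [val_cmpMap_fr, HomogeneousLocalization.val_zero, Localization.mk_eq_mk'_apply,
    IsLocalization.mk'_eq_zero_iff] at h1
  obtain ⟨u, hu⟩ := h1
  obtain ⟨s', ⟨⟨j, hs'j⟩, hs'P⟩, hs'a⟩ := exists_hS_mul_eq_zero 𝒜 (up 𝒜 p Q) ha u.2 hu
  refine ⟨frac 𝒜 p hf hfp hs'j, ?_, ?_⟩
  · unfold frac
    rw [fr_mem_iff]
    intro h
    exact hs'P ((up_isPrime 𝒜 p Q).mem_of_pow_mem _ h)
  · apply HomogeneousLocalization.val_injective
    rw [HomogeneousLocalization.val_mul, val_frac, val_fr, HomogeneousLocalization.val_zero,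
      Localization.mk_mul]
    obtain ⟨e, rfl⟩ := Nat.exists_eq_succ_of_ne_zero (Nat.pos_iff_ne_zero.1 hd)
    have h0 : s' ^ (e + 1) * a = 0 := by
      rw [pow_succ, mul_assoc, hs'a, mul_zero]
    rw [h0, Localization.mk_zero]

include hd hf hfp in
/-- `A_(P)` is the localization of `A_(p)` at `Q` -/
theorem isLocalization_cmpMap :
    @IsLocalization _ _ Q.primeCompl (AtPrime 𝒜 (up 𝒜 p Q)) _ (cmpMap 𝒜 p Q).toAlgebra := by
  letI : Algebra (AtPrime 𝒜 p) (AtPrime 𝒜 (up 𝒜 p Q)) := (cmpMap 𝒜 p Q).toAlgebra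
  rw [isLocalization_iff]
  refine ⟨fun y => isUnit_cmpMap 𝒜 p Q y.1 y.2, fun z => ?_, fun {x y} hxy => ?_⟩
  · obtain ⟨x, y, hy, hxy⟩ := cmpMap_surj 𝒜 p hd hf hfp Q z
    exact ⟨(x, ⟨y, hy⟩), hxy⟩
  · have h1 : cmpMap 𝒜 p Q (x - y) = 0 := by
      rw [map_sub, sub_eq_zero]
      exact hxy
    obtain ⟨c, hc, hcw⟩ := cmpMap_ker 𝒜 p hd hf hfp Q (x - y) h1
    refine ⟨⟨c, hc⟩, ?_⟩
    rw [mul_sub, sub_eq_zero] at hcw
    exact hcw

include hd hf hfp in
/-- the localization of `A_(p)` at `Q` is `A_(P)` for `P = up Q` -/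
def locEquiv : Localization.AtPrime Q ≃+* AtPrime 𝒜 (up 𝒜 p Q) := by
  letI : Algebra (AtPrime 𝒜 p) (AtPrime 𝒜 (up 𝒜 p Q)) := (cmpMap 𝒜 p Q).toAlgebra
  haveI : IsLocalization Q.primeCompl (AtPrime 𝒜 (up 𝒜 p Q)) :=
    isLocalization_cmpMap 𝒜 p hd hf hfp Q
  exact (IsLocalization.algEquiv Q.primeCompl (Localization.AtPrime Q)
    (AtPrime 𝒜 (up 𝒜 p Q))).toRingEquiv

end Loc

end Groth.Agent.Lib.Helper6.ProjCM
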