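import Mathlib
import Groth.Agent.Lib.Helper6.ProjCM.PCe

/-!
# Serre's conditions for the homogeneous localization at a prime; points of `Proj` (helper6)
-/

set_option autoImplicit false
set_option linter.unusedSectionVars false
set_option linter.unusedVariables false
set_option linter.unusedSimpArgs false
set_option linter.style.haveILetI false
set_option linter.overlappingInstances false
set_option maxHeartbeats 800000

noncomputable section

namespace Groth.Agent.Lib.Helper6.ProjCM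

open DirectSum HomogeneousLocalization IsLocalRing RingTheory.Sequence LocCoh
  Groth.Agent.Lib.Helper6.ProjNormal Groth.Agent.Helper8 Groth.Agent.Helper8.Depth
  Groth.Agent.Lib.Helper6.FiltBl

universe u

variable {A : Type u} [CommRing A] (𝒜 : ℕ → AddSubgroup A) [GradedRing 𝒜]
  (p : Ideal A) [hp : p.IsPrime]

section Sk

variable [IsNoetherianRing A] {f : A} {d : ℕ} (hd : 0 < d) (hf : f ∈ 𝒜 d) (hfp : f ∉ p)

include hd hf hfp in
/-- Serre's condition at a prime `Q` of `A_(p)` from Serre's condition of `A` at `up Q` -/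
theorem skAt_atPrime (k : ℕ) (Q : Ideal (AtPrime 𝒜 p)) [hQ : Q.IsPrime]
    (h : SkAt A k (up 𝒜 p Q)) : SkAt (AtPrime 𝒜 p) k Q := by
  unfold SkAt at h ⊢
  have e := locEquiv 𝒜 p hd hf hfp Q
  have h1 : depth (AtPrime 𝒜 (up 𝒜 p Q)) (AtPrime 𝒜 (up 𝒜 p Q)) =
      depth (Localization.AtPrime Q) (Localization.AtPrime Q) :=
    Serre.depth_self_eq_of_ringEquiv e
  have h2 := depth_le_depth_atPrime 𝒜 (up 𝒜 p Q) (up_isHomogeneous 𝒜 p Q) hd hf
    (f_notMem_up 𝒜 p hfp Q)
  have h3 : Q.height ≤ (up 𝒜 p Q).height := height_le_height_up 𝒜 p Q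
  calc min (k : ℕ∞) Q.height ≤ min (k : ℕ∞) (up 𝒜 p Q).height := min_le_min le_rfl h3
    _ ≤ depth (Localization.AtPrime (up 𝒜 p Q)) (Localization.AtPrime (up 𝒜 p Q)) := h
    _ ≤ depth (AtPrime 𝒜 (up 𝒜 p Q)) (AtPrime 𝒜 (up 𝒜 p Q)) := h2
    _ = depth (Localization.AtPrime Q) (Localization.AtPrime Q) := h1

include hd hf hfp in
/-- Serre's condition `(S_k)` passes from `A` to `A_(p)` -/
theorem hasSk_atPrime (k : ℕ) (hA : HasSk k A A) :
    HasSk k (AtPrime 𝒜 p) (AtPrime 𝒜 p) := by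
  rw [hasSk_iff_skAt] at hA ⊢
  intro Q _
  exact skAt_atPrime 𝒜 p hd hf hfp k Q (hA (up 𝒜 p Q))

end Sk

/-- a point of `Proj` avoids a homogeneous element of positive degree -/
theorem exists_homog_notMem (x : ProjectiveSpectrum 𝒜) :
    ∃ (f : A) (d : ℕ), 0 < d ∧ f ∈ 𝒜 d ∧ f ∉ x.asHomogeneousIdeal.toIdeal := by
  have h := x.not_irrelevant_le
  obtain ⟨a, ha, hax⟩ := SetLike.not_le_iff_exists.1 h
  obtain ⟨i, hi⟩ := exists_component_notMem 𝒜 x.asHomogeneousIdeal.toIdeal hax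
  refine ⟨decompose 𝒜 a i, i, ?_, (decompose 𝒜 a i).2, hi⟩
  rw [Nat.pos_iff_ne_zero]
  rintro rfl
  apply hi
  have h0 : (decompose 𝒜 a 0 : A) = 0 := by
    rwa [HomogeneousIdeal.mem_irrelevant_iff, GradedRing.proj_apply] at ha
  rw [h0]
  exact zero_mem _

end Groth.Agent.Lib.Helper6.ProjCM
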